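import Groth.Agent.RefX2.Extension
import Groth.Agent.RefX.Ext
import Groth.Agent.ParaFX.TrivDesc
import Groth.Agent.QCoh.PullStalk
import Groth.Agent.H1C2.Basic
import Groth.Agent.RefX2.FreeLocus
import Groth.Agent.ConsPropLib.FibreLocFreeRank
import Groth.Agent.Lib.CurveTensor
import Groth.Agent.H23.PullPush
import Groth.Prelude.Def_PicLoc

/-!
Descent of invertible extensions across a big open subscheme along flat surjective morphisms.
-/

set_option autoImplicit false
set_option linter.style.haveILetI false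
set_option backward.isDefEq.respectTransparency false
set_option backward.isDefEq.respectTransparency.types false

universe u

open CategoryTheory CategoryTheory.Limits AlgebraicGeometry TopologicalSpace TensorProduct

noncomputable section

namespace Groth.Agent.BigOpenDesc

variable {X : Scheme.{u}} [IsLocallyNoetherian X]

theorem free_stalk {M : X.Modules} (hM : PicF.IsInvertible M) (x : X) :
    ∃ _ : Module.Free (X.presheaf.stalk x) (M.presheaf.stalk x), Module.Finite (X.presheaf.stalk x) (M.presheaf.stalk x) ∧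
      Module.finrank (X.presheaf.stalk x) (M.presheaf.stalk x) = 1 := by
  have h1 : FlatMod.IsFinLocFreeOfRank 1 M := fun z =>
    let ⟨T, hz, ⟨e⟩⟩ := hM z
    ⟨T, hz, ⟨e ≪≫ (coproductUniqueIso (fun _ : Fin 1 => Coh.structureModule (T : Scheme.{u}))).symm⟩⟩
  obtain ⟨b⟩ := CurveTensor.exists_basis_stalk h1 x
  exact ⟨Module.Free.of_basis b, Module.Finite.of_basis b, by rw [Module.finrank_eq_card_basis b]; simp⟩

/-- Sections of an invertible module extend across a big open. -/
theorem extendsAcross_invertible {V : X.Opens}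
    (hV : ∀ x : X, x ∉ V → (2 : ℕ∞) ≤ LocCoh.depth (X.presheaf.stalk x) (X.presheaf.stalk x))
    {M : X.Modules} (hM : PicF.IsInvertible M) : RefX.ExtendsAcross V M := by
  have hc : Coh.IsCoh M := AmpleVan.isCoh_invertible hM
  refine RefX.extendsAcross_reflexive hc ((RefX.isReflexive_iff hc).mpr fun x => ?_) hV
  obtain ⟨_, _, -⟩ := free_stalk hM x
  exact inferInstanceAs (Module.IsReflexive (X.presheaf.stalk x) (M.presheaf.stalk x))

omit [IsLocallyNoetherian X] in
theorem isIso_restrict (V : X.Opens) {M N : X.Modules} (φ : M ⟶ N)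
    (h : ∀ x ∈ V, Function.Bijective (RefHull.stalkMapₗ φ x)) :
    IsIso ((Scheme.Modules.restrictFunctor V.ι).map φ) := by
  refine Scheme.Modules.Hom.isIso_iff_isIso_app.2 fun W => (ConcreteCategory.isIso_iff_bijective _).2 ?_
  exact RefX2.app_bijective_of_stalks φ (V := V.ι ''ᵁ W) fun x hx => h x (V.ι_image_le W hx)

/-- The direct image of an invertible module on a big open is coherent. -/
theorem isCoh_push {V : X.Opens}
    (hV : ∀ x : X, x ∉ V → (2 : ℕ∞) ≤ LocCoh.depth (X.presheaf.stalk x) (X.presheaf.stalk x))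
    {L : (V : Scheme.{u}).Modules} (hL : PicF.IsInvertible L) :
    ∃ F : X.Modules, Coh.IsCoh F ∧ Nonempty ((Scheme.Modules.pushforward V.ι).obj L ≅ F) ∧
      Nonempty ((Scheme.Modules.pullback V.ι).obj F ≅ L) := by
  haveI : IsLocallyNoetherian (V : Scheme.{u}) := inferInstance
  obtain ⟨G, hG, ⟨i⟩⟩ := RefX2.exists_coh_extension V (AmpleVan.isCoh_invertible hL)
  have hbi : ∀ x ∈ V, Function.Bijective (RefHull.stalkMapₗ (RefHull.bidualMap G) x) := fun x hx => by
    refine (RefX.stalkMap_bidual_bijective_iff hG x).2 ?_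
    obtain ⟨e, he⟩ := AssLib.exists_semilinear_restrict V.ι G ⟨x, hx⟩
    obtain ⟨_, _, -⟩ := free_stalk hL ⟨x, hx⟩
    haveI : Module.IsReflexive ((V : Scheme.{u}).presheaf.stalk ⟨x, hx⟩) (L.presheaf.stalk ⟨x, hx⟩) := inferInstance
    haveI : Module.IsReflexive _ ((G.restrict V.ι).presheaf.stalk ⟨x, hx⟩) :=
      Module.equiv (LinearEquiv.ofBijective (RefHull.stalkMapₗ i.hom ⟨x, hx⟩)
        (RefX2.stalkMap_iso_bijective i ⟨x, hx⟩)).symm
    exact RefX2.isReflexive_of_semilinear (asIso (V.ι.stalkMap ⟨x, hx⟩)).commRingCatIsoToRingEquiv e.symm fun a m =>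
      e.injective ((e.apply_symm_apply _).trans
        ((he a _).trans (congrArg (fun v : G.presheaf.stalk x => a • v) (e.apply_symm_apply m))).symm)
  haveI : IsIso ((RefX2.pushRes V).map (RefHull.bidualMap G)) := RefX2.isIso_pushRes_map V _ hbi
  have hext : RefX.ExtendsAcross V (RefHull.ddual G) :=
    RefX.extendsAcross_homSh (RefX.isCoh_dual hG).1 (RefX.extendsAcross_unit hV)
  haveI : IsIso (RefX2.unitTo V (RefHull.ddual G)) := RefX.isIso_unit_of_extendsAcross hext
  let a : (Scheme.Modules.pushforward V.ι).obj L ≅ RefHull.ddual G :=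
    (Scheme.Modules.pushforward V.ι).mapIso i.symm ≪≫ asIso ((RefX2.pushRes V).map (RefHull.bidualMap G)) ≪≫
      (asIso (RefX2.unitTo V (RefHull.ddual G))).symm
  refine ⟨RefHull.ddual G, RefX.isCoh_dual (RefX.isCoh_dual hG), ⟨a⟩, ⟨?_⟩⟩
  haveI : IsIso ((Scheme.Modules.restrictFunctor V.ι).map (RefHull.bidualMap G)) :=
    isIso_restrict V (RefHull.bidualMap G) hbi
  exact (Scheme.Modules.restrictFunctorIsoPullback V.ι).symm.app _ ≪≫
    (asIso ((Scheme.Modules.restrictFunctor V.ι).map (RefHull.bidualMap G))).symm ≪≫ i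

/-- An extension restricts back as the direct image. -/
theorem iso_push_of_extendsAcross {V : X.Opens} {M : X.Modules} (hM : RefX.ExtendsAcross V M) :
    Nonempty (M ≅ (Scheme.Modules.pushforward V.ι).obj ((Scheme.Modules.pullback V.ι).obj M)) := by
  haveI : IsIso (RefX2.unitTo V M) := RefX.isIso_unit_of_extendsAcross hM
  exact ⟨asIso (RefX2.unitTo V M) ≪≫
    (Scheme.Modules.pushforward V.ι).mapIso ((Scheme.Modules.restrictFunctorIsoPullback V.ι).app M)⟩

/-- Invertible extensions across big opens descend along flat surjective morphisms. -/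
theorem exists_extension_iff {X' : Scheme.{u}} [IsLocallyNoetherian X'] (φ : X' ⟶ X) [Flat φ] [Surjective φ]
    (V : X.Opens) (hV : ∀ x : X, x ∉ V → (2 : ℕ∞) ≤ LocCoh.depth (X.presheaf.stalk x) (X.presheaf.stalk x))
    (L : (V : Scheme.{u}).Modules) (hL : PicF.IsInvertible L) :
    (∃ M : X.Modules, PicF.IsInvertible M ∧ Nonempty ((Scheme.Modules.pullback V.ι).obj M ≅ L)) ↔
      (∃ M' : X'.Modules, PicF.IsInvertible M' ∧
        Nonempty ((Scheme.Modules.pullback (φ ⁻¹ᵁ V).ι).obj M' ≅ (Scheme.Modules.pullback (φ ∣_ V)).obj L)) := by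
  have hw : (φ ⁻¹ᵁ V).ι ≫ φ = (φ ∣_ V) ≫ V.ι := (morphismRestrict_ι φ V).symm
  constructor
  · rintro ⟨M, hM, ⟨e⟩⟩
    exact ⟨(Scheme.Modules.pullback φ).obj M, PicLoc.isInvertible_pullback φ hM,
      ⟨(Scheme.Modules.pullbackComp (φ ⁻¹ᵁ V).ι φ).app M ≪≫ (Scheme.Modules.pullbackCongr hw).app M ≪≫
        ((Scheme.Modules.pullbackComp (φ ∣_ V) V.ι).app M).symm ≪≫ (Scheme.Modules.pullback (φ ∣_ V)).mapIso e⟩⟩
  rintro ⟨M', hM', ⟨e'⟩⟩
  have hV' : ∀ x : X', x ∉ φ ⁻¹ᵁ V → (2 : ℕ∞) ≤ LocCoh.depth (X'.presheaf.stalk x) (X'.presheaf.stalk x) := by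
    intro x hx
    letI := (φ.stalkMap x).hom.toAlgebra
    haveI : Module.Flat (X.presheaf.stalk (φ x)) (X'.presheaf.stalk x) := Flat.stalkMap φ x
    haveI : IsLocalHom (algebraMap (X.presheaf.stalk (φ x)) (X'.presheaf.stalk x)) :=
      inferInstanceAs (IsLocalHom (φ.stalkMap x).hom)
    exact H1C2.two_le_depth_of_flat (((IsLocalRing.local_hom_TFAE _).out 0 2).mp this) (hV (φ x) hx)
  obtain ⟨F, hF, ⟨a⟩, hFV⟩ := isCoh_push hV hL
  refine ⟨F, ?_, hFV⟩
  -- the pullback of the extension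
  haveI : QuasiCompact V.ι := inferInstance
  haveI : QuasiSeparated V.ι := inferInstance
  haveI : Coh.IsQCoh L := (AmpleVan.isCoh_invertible hL).1
  have sq : IsPullback (φ ∣_ V) (φ ⁻¹ᵁ V).ι V.ι φ := isPullback_morphismRestrict φ V
  haveI := ParaFX.isIso_bc0 V.ι φ (φ ∣_ V) (φ ⁻¹ᵁ V).ι sq L
  obtain ⟨b⟩ := iso_push_of_extendsAcross (extendsAcross_invertible hV' hM')
  have hinv : PicF.IsInvertible ((Scheme.Modules.pullback φ).obj F) :=
    H23.PicMul.isInvertible_of_iso
      ((Scheme.Modules.pullback φ).mapIso a.symm ≪≫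
        asIso (CohBC.bc0 V.ι φ (φ ⁻¹ᵁ V).ι (φ ∣_ V) sq.w L) ≪≫
        (Scheme.Modules.pushforward (φ ⁻¹ᵁ V).ι).mapIso e'.symm ≪≫ b.symm).symm hM'
  have hstalk : ∀ y : X, ∃ _ : Module.Free (X.presheaf.stalk y) (F.presheaf.stalk y),
      Module.finrank (X.presheaf.stalk y) (F.presheaf.stalk y) = 1 := by
    intro y
    obtain ⟨x, rfl⟩ := φ.surjective y
    letI := (φ.stalkMap x).hom.toAlgebra
    haveI : Module.Flat (X.presheaf.stalk (φ x)) (X'.presheaf.stalk x) := Flat.stalkMap φ x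
    haveI : IsLocalHom (algebraMap (X.presheaf.stalk (φ x)) (X'.presheaf.stalk x)) :=
      inferInstanceAs (IsLocalHom (φ.stalkMap x).hom)
    haveI : Module.FaithfullyFlat (X.presheaf.stalk (φ x)) (X'.presheaf.stalk x) :=
      Module.FaithfullyFlat.of_flat_of_isLocalHom
    obtain ⟨e⟩ := QCoh.nonempty_pullStalkEquiv φ hF.1 x
    obtain ⟨_, hfin, hr⟩ := free_stalk hinv x
    haveI : Module.Finite (X.presheaf.stalk (φ x)) (F.presheaf.stalk (φ x)) :=
      QCoh.finite_stalk_of_isFT hF.1 hF.2 (φ x)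
    haveI : Module.Free (X'.presheaf.stalk x) (X'.presheaf.stalk x ⊗[X.presheaf.stalk (φ x)] F.presheaf.stalk (φ x)) :=
      Module.Free.of_equiv e
    haveI : Module.Flat (X.presheaf.stalk (φ x)) (F.presheaf.stalk (φ x)) :=
      Module.Flat.of_flat_tensorProduct (X.presheaf.stalk (φ x)) (F.presheaf.stalk (φ x)) (X'.presheaf.stalk x)
    haveI : Module.Free (X.presheaf.stalk (φ x)) (F.presheaf.stalk (φ x)) := Module.free_of_flat_of_isLocalRing
    refine ⟨inferInstance, ?_⟩
    rw [← Module.finrank_baseChange (R := X'.presheaf.stalk x), ← e.finrank_eq, hr]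
  have hlf : FlatMod.IsFinLocFree F := fun y => by
    obtain ⟨_, -⟩ := hstalk y
    obtain ⟨U, n, hy, h⟩ := QCoh.exists_free_nhd_of_free_stalk (QCoh.isCoh_iff_isFP.1 hF) y
    exact ⟨U, n, hy, h⟩
  have h1 : FlatMod.IsFinLocFreeOfRank 1 F :=
    ConsPropLib.isFinLocFreeOfRank_iff.2 ⟨hlf, fun y => (hstalk y).2⟩
  exact fun y =>
    let ⟨T, hy, ⟨e⟩⟩ := h1 y
    ⟨T, hy, ⟨e ≪≫ coproductUniqueIso _⟩⟩

end Groth.Agent.BigOpenDesc
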